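import Groth.Agent.ClosedGlue.Basic

/-!
# The union of two closed subschemes is their pushout along the intersection
-/

universe u

open CategoryTheory CategoryTheory.Limits AlgebraicGeometry TopologicalSpace

namespace Groth.ClosedGlue

variable {S : Scheme.{u}}

lemma appLE_congr {X Y : Scheme.{u}} {f g : X ⟶ Y} (h : f = g) (U : Y.Opens) (V : X.Opens)
    (e : V ≤ f ⁻¹ᵁ U) (e' : V ≤ g ⁻¹ᵁ U) (r : Γ(Y, U)) : f.appLE U V e r = g.appLE U V e' r := by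
  subst h; rfl

lemma appLE_appLE {X Y Z : Scheme.{u}} (f : X ⟶ Y) (g : Y ⟶ Z) (U : Z.Opens) (V : Y.Opens)
    (W : X.Opens) (e : V ≤ g ⁻¹ᵁ U) (e' : W ≤ f ⁻¹ᵁ V) (r : Γ(Z, U)) :
    f.appLE V W e' (g.appLE U V e r) =
      (f ≫ g).appLE U W (e'.trans ((Opens.map f.base).map (homOfLE e)).le) r := by
  rw [← CommRingCat.comp_apply, Scheme.Hom.appLE_comp_appLE]

lemma restrict_appTop_eq_zero_iff {X U : Scheme.{u}} (a : X ⟶ U) (W : U.Opens) (s : Γ(W.toScheme, ⊤)) :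
    (a ∣_ W).appTop s = 0 ↔ a.appLE W (a ⁻¹ᵁ W) le_rfl (W.topIso.hom s) = 0 := by
  rw [← Scheme.Hom.resLE_eq_morphismRestrict, Scheme.Hom.appTop, Scheme.Hom.resLE_app_top]
  simp only [CommRingCat.comp_apply]
  exact map_eq_zero_iff _ (ConcreteCategory.bijective_of_isIso (a ⁻¹ᵁ W).topIso.inv).1

/-- On the preimage of an affine open the functions on a closed subscheme are the quotient. -/
lemma appLE_props (I : S.IdealSheafData) {Z : Scheme.{u}} (q : Z ⟶ S) (A : S.affineOpens)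
    (e : ∃ i : Z ≅ I.subscheme, i.hom ≫ I.subschemeι = q) :
    Function.Surjective (q.appLE A.1 (q ⁻¹ᵁ A.1) le_rfl) ∧
      RingHom.ker (q.appLE A.1 (q ⁻¹ᵁ A.1) le_rfl).hom = I.ideal A := by
  obtain ⟨i, rfl⟩ := e
  have h : (i.hom ≫ I.subschemeι).appLE A.1 ((i.hom ≫ I.subschemeι) ⁻¹ᵁ A.1) le_rfl =
      I.subschemeι.app A.1 ≫ i.hom.app _ := by
    rw [Scheme.Hom.appLE_eq_app, Scheme.Hom.comp_app]
  rw [h]
  refine ⟨(ConcreteCategory.bijective_of_isIso (i.hom.app _)).2.comp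
    (Scheme.Hom.app_surjective _ A.1 A.2), ?_⟩
  rw [← I.ker_subschemeι_app A]
  ext r
  simp only [RingHom.mem_ker, CommRingCat.hom_comp, RingHom.coe_comp, Function.comp_apply]
  exact map_eq_zero_iff _ (ConcreteCategory.bijective_of_isIso (i.hom.app _)).1

lemma ex_aux {T X Y U : Scheme.{u}} (a : X ⟶ U) (b : Y ⟶ U) (t₁ : T ⟶ X) (t₂ : T ⟶ Y)
    (w : t₁ ≫ a = t₂ ≫ b) (ι : U ⟶ S) (A : S.Opens)
    (ha : Function.Surjective ((a ≫ ι).appLE A ((a ≫ ι) ⁻¹ᵁ A) le_rfl))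
    (hb : Function.Surjective ((b ≫ ι).appLE A ((b ≫ ι) ⁻¹ᵁ A) le_rfl))
    (hc : ∀ r, ((t₁ ≫ a) ≫ ι).appLE A (((t₁ ≫ a) ≫ ι) ⁻¹ᵁ A) le_rfl r = 0 →
      ∃ i j, (a ≫ ι).appLE A ((a ≫ ι) ⁻¹ᵁ A) le_rfl i = 0 ∧
        (b ≫ ι).appLE A ((b ≫ ι) ⁻¹ᵁ A) le_rfl j = 0 ∧ i + j = r)
    (x : Γ((a ⁻¹ᵁ (ι ⁻¹ᵁ A)).toScheme, ⊤)) (y : Γ((b ⁻¹ᵁ (ι ⁻¹ᵁ A)).toScheme, ⊤))
    (hxy : (t₁.resLE (a ⁻¹ᵁ (ι ⁻¹ᵁ A)) ((t₁ ≫ a) ⁻¹ᵁ (ι ⁻¹ᵁ A)) le_rfl).appTop x =
      (t₂.resLE (b ⁻¹ᵁ (ι ⁻¹ᵁ A)) ((t₁ ≫ a) ⁻¹ᵁ (ι ⁻¹ᵁ A)) (by rw [w]; rfl)).appTop y) :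
    ∃ s, (a ∣_ (ι ⁻¹ᵁ A)).appTop s = x ∧ (b ∣_ (ι ⁻¹ᵁ A)).appTop s = y := by
  let W := ι ⁻¹ᵁ A
  obtain ⟨p, hp'⟩ := ha ((a ⁻¹ᵁ W).topIso.hom x)
  obtain ⟨q, hq'⟩ := hb ((b ⁻¹ᵁ W).topIso.hom y)
  have hp : (a ≫ ι).appLE A (a ⁻¹ᵁ W) le_rfl p = (a ⁻¹ᵁ W).topIso.hom x := hp'
  have hq : (b ≫ ι).appLE A (b ⁻¹ᵁ W) le_rfl q = (b ⁻¹ᵁ W).topIso.hom y := hq'
  clear hp' hq'
  have hpq : ((t₁ ≫ a) ≫ ι).appLE A (((t₁ ≫ a) ≫ ι) ⁻¹ᵁ A) le_rfl (p - q) = 0 := by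
    rw [map_sub, sub_eq_zero]
    have := congrArg ((t₁ ≫ a) ⁻¹ᵁ W).topIso.hom hxy
    simp only [Scheme.Hom.appTop, Scheme.Hom.resLE_app_top, CommRingCat.comp_apply] at this
    rw [← CommRingCat.comp_apply _ ((t₁ ≫ a) ⁻¹ᵁ W).topIso.hom,
      ← CommRingCat.comp_apply _ ((t₁ ≫ a) ⁻¹ᵁ W).topIso.hom, Iso.inv_hom_id] at this
    rw [CommRingCat.id_apply, CommRingCat.id_apply, ← hp, ← hq] at this
    rw [appLE_appLE, appLE_appLE] at this
    exact (appLE_congr (Category.assoc _ _ _) _ _ _ _ p).trans (this.trans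
      (appLE_congr (by rw [← Category.assoc, w]) _ _ _ _ q))
  obtain ⟨i, j, hi, hj, hij⟩ := hc _ hpq
  refine ⟨W.topIso.inv (ι.appLE A W le_rfl (p - i)), ?_, ?_⟩
  all_goals
    rw [← Scheme.Hom.resLE_eq_morphismRestrict, Scheme.Hom.appTop, Scheme.Hom.resLE_app_top]
    simp only [CommRingCat.comp_apply]
    rw [← CommRingCat.comp_apply W.topIso.inv, Iso.inv_hom_id, CommRingCat.id_apply]
    rw [appLE_appLE]
  · have hi' : (a ≫ ι).appLE A (a ⁻¹ᵁ W) le_rfl i = 0 := hi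
    rw [map_sub, hi', sub_zero, hp]
    rw [← CommRingCat.comp_apply, Iso.hom_inv_id, CommRingCat.id_apply]
  · have hj' : (b ≫ ι).appLE A (b ⁻¹ᵁ W) le_rfl j = 0 := hj
    rw [show p - i = q + j by linear_combination -hij, map_add, hj', add_zero, hq]
    rw [← CommRingCat.comp_apply, Iso.hom_inv_id, CommRingCat.id_apply]

/-- The data exhibiting the union as a gluing. -/
noncomputable def unionData (I J : S.IdealSheafData) :
    Data (Scheme.IdealSheafData.inclusion (inf_le_left : I ⊓ J ≤ I))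
      (Scheme.IdealSheafData.inclusion (inf_le_right : I ⊓ J ≤ J))
      (Scheme.IdealSheafData.inclusion (le_sup_left : I ≤ I ⊔ J))
      (Scheme.IdealSheafData.inclusion (le_sup_right : J ≤ I ⊔ J)) where
  w := by rw [Scheme.IdealSheafData.inclusion_comp, Scheme.IdealSheafData.inclusion_comp]
  isClosed_a := by
    have : IsClosedImmersion (Scheme.IdealSheafData.inclusion (inf_le_left : I ⊓ J ≤ I) ≫
        (I ⊓ J).subschemeι) := by
      rw [Scheme.IdealSheafData.inclusion_subschemeι]; infer_instance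
    exact IsClosedImmersion.of_comp_isClosedImmersion _ (I ⊓ J).subschemeι
  isClosed_b := by
    have : IsClosedImmersion (Scheme.IdealSheafData.inclusion (inf_le_right : I ⊓ J ≤ J) ≫
        (I ⊓ J).subschemeι) := by
      rw [Scheme.IdealSheafData.inclusion_subschemeι]; infer_instance
    exact IsClosedImmersion.of_comp_isClosedImmersion _ (I ⊓ J).subschemeι
  surj p := by
    have hle : (I ⊓ J).support ≤ (I * J).support :=
      Scheme.IdealSheafData.support_antitone fun A => Ideal.mul_le_inf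
    rw [Scheme.IdealSheafData.support_mul] at hle
    have key : ∀ (K : S.IdealSheafData) (h : I ⊓ J ≤ K), (I ⊓ J).subschemeι p ∈ K.support →
        ∃ x, Scheme.IdealSheafData.inclusion h x = p := fun K h hp => by
      obtain ⟨x, hx⟩ := K.range_subschemeι.ge hp
      refine ⟨x, (I ⊓ J).subschemeι.isClosedEmbedding.injective ?_⟩
      rw [← Scheme.Hom.comp_apply, Scheme.IdealSheafData.inclusion_subschemeι, hx]
    rcases hle ((I ⊓ J).range_subschemeι.le ⟨p, rfl⟩) with hp | hp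
    · exact Or.inl (key I inf_le_left hp)
    · exact Or.inr (key J inf_le_right hp)
  overlap x y h := by
    have h' : I.subschemeι x = J.subschemeι y := by
      rw [← Scheme.IdealSheafData.inclusion_subschemeι (inf_le_left : I ⊓ J ≤ I), Scheme.Hom.comp_apply,
        h, ← Scheme.Hom.comp_apply, Scheme.IdealSheafData.inclusion_subschemeι]
    have hz : I.subschemeι x ∈ ((I ⊔ J).support : Set S) := by
      rw [Scheme.IdealSheafData.support_sup]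
      exact ⟨I.range_subschemeι.le ⟨x, rfl⟩, h' ▸ J.range_subschemeι.le ⟨y, rfl⟩⟩
    obtain ⟨z, hz⟩ := (I ⊔ J).range_subschemeι.ge hz
    refine ⟨z, I.subschemeι.isClosedEmbedding.injective ?_,
      J.subschemeι.isClosedEmbedding.injective ?_⟩
    · rw [← Scheme.Hom.comp_apply, Scheme.IdealSheafData.inclusion_subschemeι, hz]
    · rw [← Scheme.Hom.comp_apply, Scheme.IdealSheafData.inclusion_subschemeι, hz, h']
  P W := ∃ A : S.affineOpens, W = (I ⊓ J).subschemeι ⁻¹ᵁ A.1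
  isAffine := by
    rintro _ ⟨A, rfl⟩
    exact A.2.preimage _
  basis O p hp := by
    obtain ⟨O', hO'⟩ := (I ⊓ J).subschemeι.isEmbedding.isInducing.isOpen_iff.mp O.isOpen
    obtain ⟨A, hA, hpA, hAO⟩ := exists_isAffineOpen_mem_and_subset
      (x := (I ⊓ J).subschemeι p) (U := ⟨O', hO'.1⟩) (hO'.2.ge hp)
    exact ⟨_, ⟨⟨A, hA⟩, rfl⟩, hpA, fun q hq => hO'.2.le (hAO hq)⟩
  inj := by
    rintro _ ⟨A, rfl⟩ s ha hb
    rw [restrict_appTop_eq_zero_iff] at ha hb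
    obtain ⟨r, hr⟩ := (appLE_props (I ⊓ J) (I ⊓ J).subschemeι A ⟨Iso.refl _, Category.id_comp _⟩).1
      (((I ⊓ J).subschemeι ⁻¹ᵁ A.1).topIso.hom s)
    rw [← hr, ← CommRingCat.comp_apply, Scheme.Hom.appLE_comp_appLE] at ha hb
    apply (ConcreteCategory.bijective_of_isIso ((I ⊓ J).subschemeι ⁻¹ᵁ A.1).topIso.hom).1
    rw [map_zero, ← hr]
    refine (RingHom.mem_ker (f := (Scheme.Hom.appLE _ _ _ _).hom)).mp ?_
    rw [(appLE_props (I ⊓ J) (I ⊓ J).subschemeι A ⟨Iso.refl _, Category.id_comp _⟩).2]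
    have e₁ := (appLE_props I _ A ⟨Iso.refl _,
      (Category.id_comp _).trans (Scheme.IdealSheafData.inclusion_subschemeι
        (inf_le_left : I ⊓ J ≤ I)).symm⟩).2
    have e₂ := (appLE_props J _ A ⟨Iso.refl _,
      (Category.id_comp _).trans (Scheme.IdealSheafData.inclusion_subschemeι
        (inf_le_right : I ⊓ J ≤ J)).symm⟩).2
    exact ⟨e₁.le ha, e₂.le hb⟩
  ex := by
    rintro _ ⟨A, rfl⟩ x y hxy
    have pI := appLE_props I (Scheme.IdealSheafData.inclusion (inf_le_left : I ⊓ J ≤ I) ≫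
      (I ⊓ J).subschemeι) A ⟨Iso.refl _,
      (Category.id_comp _).trans (Scheme.IdealSheafData.inclusion_subschemeι _).symm⟩
    have pJ := appLE_props J (Scheme.IdealSheafData.inclusion (inf_le_right : I ⊓ J ≤ J) ≫
      (I ⊓ J).subschemeι) A ⟨Iso.refl _,
      (Category.id_comp _).trans (Scheme.IdealSheafData.inclusion_subschemeι _).symm⟩
    have pS := appLE_props (I ⊔ J)
      ((Scheme.IdealSheafData.inclusion (le_sup_left : I ≤ I ⊔ J) ≫
        Scheme.IdealSheafData.inclusion (inf_le_left : I ⊓ J ≤ I)) ≫ (I ⊓ J).subschemeι) A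
      ⟨Iso.refl _, by
        rw [Category.assoc, Scheme.IdealSheafData.inclusion_subschemeι,
          Scheme.IdealSheafData.inclusion_subschemeι, Iso.refl_hom, Category.id_comp]⟩
    refine ex_aux _ _ _ _ (by rw [Scheme.IdealSheafData.inclusion_comp, Scheme.IdealSheafData.inclusion_comp]) _ _ pI.1 pJ.1 (fun r hr => ?_) x y hxy
    have h := pS.2.le (RingHom.mem_ker.mpr hr)
    rw [Scheme.IdealSheafData.ideal_sup, Pi.sup_apply, Submodule.mem_sup] at h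
    obtain ⟨i, hi, j, hj, hij⟩ := h
    exact ⟨i, j, RingHom.mem_ker.mp (pI.2.ge hi), RingHom.mem_ker.mp (pJ.2.ge hj), hij⟩

end Groth.ClosedGlue
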