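import Mathlib.AlgebraicGeometry.Morphisms.ClosedImmersion
import Mathlib.AlgebraicGeometry.Gluing
import Mathlib.CategoryTheory.Limits.Shapes.Pullback.IsPullback.Basic

/-!
# Gluing morphisms along two closed subschemes

If two closed subschemes cover a scheme and, on a basis of affine opens, the functions are the
pairs of functions on the two pieces agreeing on the overlap, the scheme is the pushout.
-/

universe u

open CategoryTheory CategoryTheory.Limits AlgebraicGeometry TopologicalSpace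

namespace Groth.ClosedGlue

variable {T X Y U Z : Scheme.{u}}

/-- A morphism into an affine scheme from a map on global functions. -/
noncomputable def toAffine {W V : Scheme.{u}} [IsAffine V] (s : Γ(V, ⊤) ⟶ Γ(W, ⊤)) : W ⟶ V :=
  W.toSpecΓ ≫ Spec.map s ≫ V.isoSpec.inv

lemma toAffine_appTop {W V : Scheme.{u}} [IsAffine W] [IsAffine V] (s : Γ(V, ⊤) ⟶ Γ(W, ⊤)) :
    (toAffine s).appTop = s := by
  apply Spec.map_injective
  rw [← cancel_epi W.toSpecΓ, ← Scheme.toSpecΓ_naturality, toAffine, Category.assoc, Category.assoc,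
    Scheme.isoSpec_inv_toSpecΓ, Category.comp_id]

/-- The hypotheses: closed pieces covering, with overlap, and functions glueing on a basis of
affine opens. -/
structure Data (a : X ⟶ U) (b : Y ⟶ U) (t₁ : T ⟶ X) (t₂ : T ⟶ Y) where
  w : t₁ ≫ a = t₂ ≫ b
  isClosed_a : IsClosedImmersion a
  isClosed_b : IsClosedImmersion b
  surj : ∀ p : U, (∃ x, a x = p) ∨ ∃ y, b y = p
  overlap : ∀ x y, a x = b y → ∃ z, t₁ z = x ∧ t₂ z = y
  P : U.Opens → Prop
  isAffine : ∀ W, P W → IsAffineOpen W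
  basis : ∀ (O : U.Opens) (p : U), p ∈ O → ∃ W, P W ∧ p ∈ W ∧ W ≤ O
  inj : ∀ W, P W → ∀ s, (a ∣_ W).appTop s = 0 → (b ∣_ W).appTop s = 0 → s = 0
  ex : ∀ W, P W → ∀ x y,
    (t₁.resLE (a ⁻¹ᵁ W) ((t₁ ≫ a) ⁻¹ᵁ W) le_rfl).appTop x =
      (t₂.resLE (b ⁻¹ᵁ W) ((t₁ ≫ a) ⁻¹ᵁ W) (by rw [w]; rfl)).appTop y →
    ∃ s, (a ∣_ W).appTop s = x ∧ (b ∣_ W).appTop s = y

variable {a : X ⟶ U} {b : Y ⟶ U} {t₁ : T ⟶ X} {t₂ : T ⟶ Y}

lemma restrict_homOfLE {O W : U.Opens} (h : O ≤ W) (q : X ⟶ U) :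
    (q ∣_ O) ≫ U.homOfLE h = X.homOfLE (q.preimage_mono h) ≫ (q ∣_ W) := by
  rw [← cancel_mono W.ι]
  simp [morphismRestrict_ι]

/-- A morphism on an open is determined by its restrictions to the two pieces. -/
lemma Data.ext (D : Data a b t₁ t₂) (O : U.Opens) (h₁ h₂ : O.toScheme ⟶ Z)
    (ha : (a ∣_ O) ≫ h₁ = (a ∣_ O) ≫ h₂) (hb : (b ∣_ O) ≫ h₁ = (b ∣_ O) ≫ h₂) : h₁ = h₂ := by
  have hpt : ∀ p : O.toScheme, h₁ p = h₂ p := by
    intro p
    rcases D.surj p.1 with ⟨x, hx⟩ | ⟨y, hy⟩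
    · have hx' : x ∈ a ⁻¹ᵁ O := by show a x ∈ O; rw [hx]; exact p.2
      have e : (a ∣_ O) ⟨x, hx'⟩ = p := Subtype.ext ((morphismRestrict_base_coe a O _).trans hx)
      rw [← e, ← Scheme.Hom.comp_apply, ← Scheme.Hom.comp_apply, ha]
    · have hy' : y ∈ b ⁻¹ᵁ O := by show b y ∈ O; rw [hy]; exact p.2
      have e : (b ∣_ O) ⟨y, hy'⟩ = p := Subtype.ext ((morphismRestrict_base_coe b O _).trans hy)
      rw [← e, ← Scheme.Hom.comp_apply, ← Scheme.Hom.comp_apply, hb]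
  refine Scheme.hom_ext_of_forall _ _ fun p => ?_
  obtain ⟨V, hV, hpV, -⟩ :=
    exists_isAffineOpen_mem_and_subset (x := h₁ p) (U := ⊤) trivial
  obtain ⟨W, hPW, hpW, hW⟩ := D.basis (O.ι ''ᵁ (h₁ ⁻¹ᵁ V)) p.1 ⟨p, hpV, rfl⟩
  have hWO : W ≤ O := hW.trans (O.ι_image_le _)
  refine ⟨O.ι ⁻¹ᵁ W, hpW, ?_⟩
  have : IsAffine V.toScheme := hV
  have : IsAffine W.toScheme := D.isAffine W hPW
  have r₁ : Set.range (U.homOfLE hWO ≫ h₁) ⊆ Set.range V.ι := by
    rintro _ ⟨q, rfl⟩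
    obtain ⟨p', hp', e⟩ := hW q.2
    rw [Scheme.Opens.range_ι]
    have : U.homOfLE hWO q = p' := Subtype.ext ((Scheme.homOfLE_apply _ _).trans e.symm)
    show h₁ (U.homOfLE hWO q) ∈ V
    rw [this]; exact hp'
  have r₂ : Set.range (U.homOfLE hWO ≫ h₂) ⊆ Set.range V.ι := by
    rintro _ ⟨q, rfl⟩
    apply r₁
    exact ⟨q, hpt _⟩
  have key : U.homOfLE hWO ≫ h₁ = U.homOfLE hWO ≫ h₂ := by
    rw [← IsOpenImmersion.lift_fac V.ι _ r₁, ← IsOpenImmersion.lift_fac V.ι _ r₂]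
    congr 1
    apply ext_of_isAffine
    ext v
    rw [← sub_eq_zero]
    refine D.inj W hPW _ ?_ ?_
    all_goals
      rw [map_sub, sub_eq_zero, ← CommRingCat.comp_apply, ← CommRingCat.comp_apply,
        ← Scheme.Hom.comp_appTop, ← Scheme.Hom.comp_appTop]
      congr 3
      rw [← cancel_mono V.ι]
      simp only [Category.assoc, IsOpenImmersion.lift_fac]
      rw [← Category.assoc, restrict_homOfLE, ← Category.assoc, restrict_homOfLE]
      simp only [Category.assoc, ha, hb]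
  let i : (O.ι ⁻¹ᵁ W).toScheme ⟶ W.toScheme := O.ι.resLE W _ le_rfl
  have : (O.ι ⁻¹ᵁ W).ι = i ≫ U.homOfLE hWO := by
    rw [← cancel_mono O.ι, Category.assoc, Scheme.homOfLE_ι, Scheme.Hom.resLE_comp_ι]
  rw [this, Category.assoc, Category.assoc, key]

/-- Morphisms agreeing on the overlap glue near every point. -/
lemma Data.exists_local (D : Data a b t₁ t₂) (g₁ : X ⟶ Z) (g₂ : Y ⟶ Z)
    (hg : t₁ ≫ g₁ = t₂ ≫ g₂) (p : U) :
    ∃ (W : U.Opens) (k : W.toScheme ⟶ Z), p ∈ W ∧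
      (a ∣_ W) ≫ k = (a ⁻¹ᵁ W).ι ≫ g₁ ∧ (b ∣_ W) ≫ k = (b ⁻¹ᵁ W).ι ≫ g₂ := by
  have := D.isClosed_a
  have := D.isClosed_b
  have hval : ∃ v : Z, (∀ x, a x = p → g₁ x = v) ∧ ∀ y, b y = p → g₂ y = v := by
    have ho : ∀ x y, a x = b y → g₁ x = g₂ y := fun x y h => by
      obtain ⟨z, rfl, rfl⟩ := D.overlap x y h
      rw [← Scheme.Hom.comp_apply, ← Scheme.Hom.comp_apply, hg]
    rcases D.surj p with ⟨x, hx⟩ | ⟨y, hy⟩
    · exact ⟨g₁ x, fun x' hx' => by rw [a.isClosedEmbedding.injective (hx'.trans hx.symm)],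
        fun y hy => (ho x y (hx.trans hy.symm)).symm⟩
    · exact ⟨g₂ y, fun x hx => ho x y (hx.trans hy.symm),
        fun y' hy' => by rw [b.isClosedEmbedding.injective (hy'.trans hy.symm)]⟩
  obtain ⟨v, hv₁, hv₂⟩ := hval
  obtain ⟨V, hV, hvV, -⟩ := exists_isAffineOpen_mem_and_subset (x := v) (U := ⊤) trivial
  let O : U.Opens := ⟨(a '' (g₁ ⁻¹ᵁ V : Set X)ᶜ ∪ b '' (g₂ ⁻¹ᵁ V : Set Y)ᶜ)ᶜ,
    ((a.isClosedEmbedding.isClosedMap _ (g₁ ⁻¹ᵁ V).isOpen.isClosed_compl).union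
      (b.isClosedEmbedding.isClosedMap _ (g₂ ⁻¹ᵁ V).isOpen.isClosed_compl)).isOpen_compl⟩
  have hpO : p ∈ O := by
    rintro (⟨x, hx, e⟩ | ⟨y, hy, e⟩)
    · exact hx (show g₁ x ∈ V by rw [hv₁ x e]; exact hvV)
    · exact hy (show g₂ y ∈ V by rw [hv₂ y e]; exact hvV)
  obtain ⟨W, hPW, hpW, hWO⟩ := D.basis O p hpO
  have : IsAffine V.toScheme := hV
  have : IsAffine W.toScheme := D.isAffine W hPW
  have r₁ : Set.range ((a ⁻¹ᵁ W).ι ≫ g₁) ⊆ Set.range V.ι := by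
    rintro _ ⟨x, rfl⟩
    rw [Scheme.Opens.range_ι]
    by_contra h
    exact hWO x.2 (Or.inl ⟨x.1, h, rfl⟩)
  have r₂ : Set.range ((b ⁻¹ᵁ W).ι ≫ g₂) ⊆ Set.range V.ι := by
    rintro _ ⟨x, rfl⟩
    rw [Scheme.Opens.range_ι]
    by_contra h
    exact hWO x.2 (Or.inr ⟨x.1, h, rfl⟩)
  let l₁ := IsOpenImmersion.lift V.ι _ r₁
  let l₂ := IsOpenImmersion.lift V.ι _ r₂
  let Φ : Γ(W.toScheme, ⊤) →+* _ := (a ∣_ W).appTop.hom.prod (b ∣_ W).appTop.hom
  have hΦ : Function.Injective Φ := (injective_iff_map_eq_zero Φ).mpr fun s hs =>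
    D.inj W hPW s (Prod.ext_iff.mp hs).1 (Prod.ext_iff.mp hs).2
  have hl : t₁.resLE (a ⁻¹ᵁ W) ((t₁ ≫ a) ⁻¹ᵁ W) le_rfl ≫ l₁ =
      t₂.resLE (b ⁻¹ᵁ W) ((t₁ ≫ a) ⁻¹ᵁ W) (by rw [D.w]; rfl) ≫ l₂ := by
    simp only [← cancel_mono V.ι, Category.assoc, l₁, l₂, IsOpenImmersion.lift_fac,
      Scheme.Hom.resLE_comp_ι_assoc, hg]
  have hs : ∀ c : Γ(V.toScheme, ⊤), ∃ s, Φ s = (l₁.appTop c, l₂.appTop c) := by
    intro c
    obtain ⟨s, h₁, h₂⟩ := D.ex W hPW (l₁.appTop c) (l₂.appTop c) (by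
      rw [← CommRingCat.comp_apply, ← CommRingCat.comp_apply, ← Scheme.Hom.comp_appTop,
        ← Scheme.Hom.comp_appTop, hl])
    exact ⟨s, Prod.ext h₁ h₂⟩
  choose s hs using hs
  let σ : Γ(V.toScheme, ⊤) →+* Γ(W.toScheme, ⊤) :=
    { toFun := s
      map_one' := hΦ (by rw [hs, map_one, map_one, map_one]; rfl)
      map_mul' := fun c c' => hΦ (by rw [hs, map_mul, map_mul, map_mul, hs, hs]; rfl)
      map_zero' := hΦ (by rw [hs, map_zero, map_zero, map_zero]; rfl)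
      map_add' := fun c c' => hΦ (by rw [hs, map_add, map_add, map_add, hs, hs]; rfl) }
  let k₀ := toAffine (W := W.toScheme) (V := V.toScheme) (CommRingCat.ofHom σ)
  have h₁ : (a ∣_ W) ≫ k₀ = l₁ := ext_of_isAffine (by
    rw [Scheme.Hom.comp_appTop, toAffine_appTop]
    ext c
    exact (Prod.ext_iff.mp (hs c)).1)
  have h₂ : (b ∣_ W) ≫ k₀ = l₂ := ext_of_isAffine (by
    rw [Scheme.Hom.comp_appTop, toAffine_appTop]
    ext c
    exact (Prod.ext_iff.mp (hs c)).2)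
  refine ⟨W, k₀ ≫ V.ι, hpW, ?_, ?_⟩
  · rw [← Category.assoc, h₁]; exact IsOpenImmersion.lift_fac _ _ _
  · rw [← Category.assoc, h₂]; exact IsOpenImmersion.lift_fac _ _ _

/-- Morphisms agreeing on the overlap glue. -/
lemma Data.exists_desc (D : Data a b t₁ t₂) (g₁ : X ⟶ Z) (g₂ : Y ⟶ Z)
    (hg : t₁ ≫ g₁ = t₂ ≫ g₂) : ∃ h : U ⟶ Z, a ≫ h = g₁ ∧ b ≫ h = g₂ := by
  choose W k hp ha hb using D.exists_local g₁ g₂ hg
  let 𝒰 : U.OpenCover := {
    I₀ := U, X i := (W i), f i := (W i).ι,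
    mem₀ := by
      rw [Scheme.presieve₀_mem_precoverage_iff]
      refine ⟨fun x ↦ ⟨x, by simpa using hp x⟩, inferInstance⟩ }
  have compat : ∀ i j : U, pullback.fst (W i).ι (W j).ι ≫ k i = pullback.snd _ _ ≫ k j := by
    intro i j
    let q := pullback.fst (W i).ι (W j).ι ≫ (W i).ι
    let O := q.opensRange
    let e := q.isoOpensRange
    have hqi : O ≤ W i := by
      rintro _ ⟨z, rfl⟩
      exact (pullback.fst (W i).ι (W j).ι z).2
    have hqj : O ≤ W j := by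
      rintro _ ⟨z, rfl⟩
      show q z ∈ W j
      simp only [q, pullback.condition]
      exact (pullback.snd (W i).ι (W j).ι z).2
    have e₁ : e.inv ≫ pullback.fst (W i).ι (W j).ι = U.homOfLE hqi := by
      rw [← cancel_mono (W i).ι, Category.assoc, Scheme.homOfLE_ι]
      exact q.isoOpensRange_inv_comp
    have e₂ : e.inv ≫ pullback.snd (W i).ι (W j).ι = U.homOfLE hqj := by
      rw [← cancel_mono (W j).ι, Category.assoc, Scheme.homOfLE_ι, ← pullback.condition]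
      exact q.isoOpensRange_inv_comp
    rw [← cancel_epi e.inv, ← Category.assoc, ← Category.assoc, e₁, e₂]
    refine D.ext O _ _ ?_ ?_
    all_goals
      rw [← Category.assoc, ← Category.assoc, restrict_homOfLE, restrict_homOfLE]
      simp only [Category.assoc, ha, hb, Scheme.homOfLE_ι_assoc]
  refine ⟨𝒰.glueMorphisms k compat, ?_, ?_⟩
  · refine Scheme.hom_ext_of_forall _ _ fun x => ⟨a ⁻¹ᵁ W (a x), hp _, ?_⟩
    rw [← morphismRestrict_ι_assoc, ← ha]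
    exact congrArg _ (𝒰.ι_glueMorphisms k compat (a x))
  · refine Scheme.hom_ext_of_forall _ _ fun y => ⟨b ⁻¹ᵁ W (b y), hp _, ?_⟩
    rw [← morphismRestrict_ι_assoc, ← hb]
    exact congrArg _ (𝒰.ι_glueMorphisms k compat (b y))

lemma Data.hom_ext (D : Data a b t₁ t₂) {h₁ h₂ : U ⟶ Z} (ha : a ≫ h₁ = a ≫ h₂)
    (hb : b ≫ h₁ = b ≫ h₂) : h₁ = h₂ := by
  refine Scheme.hom_ext_of_forall _ _ fun p => ⟨⊤, trivial, D.ext ⊤ _ _ ?_ ?_⟩
  · rw [morphismRestrict_ι_assoc, morphismRestrict_ι_assoc, ha]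
  · rw [morphismRestrict_ι_assoc, morphismRestrict_ι_assoc, hb]

lemma Data.isPushout (D : Data a b t₁ t₂) : IsPushout t₁ t₂ a b := by
  refine IsPushout.of_isColimit (c := PushoutCocone.mk a b D.w) (PushoutCocone.IsColimit.mk D.w
    (fun c => (D.exists_desc c.inl c.inr c.condition).choose)
    (fun c => (D.exists_desc c.inl c.inr c.condition).choose_spec.1)
    (fun c => (D.exists_desc c.inl c.inr c.condition).choose_spec.2)
    (fun c m h₁ h₂ => D.hom_ext ?_ ?_))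
  · rw [h₁, (D.exists_desc c.inl c.inr c.condition).choose_spec.1]
  · rw [h₂, (D.exists_desc c.inl c.inr c.condition).choose_spec.2]

end Groth.ClosedGlue
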